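import Groth.Agent.FinSurjLib.Engine
import Groth.Agent.CurveLib.IntegralCrit
import Groth.Agent.DCohLib.ProjFlf
import Groth.Agent.S0016

/-!
# Vanishing of cohomology along a finite surjective morphism
-/

set_option autoImplicit false
set_option backward.isDefEq.respectTransparency false
set_option linter.style.haveILetI false

universe u

open CategoryTheory CategoryTheory.Limits AlgebraicGeometry TopologicalSpace Opposite
open Groth.Agent.PullbackMod Groth.Agent.DCohLib Groth.Agent.CurveLib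

noncomputable section

namespace Groth.Agent.FinSurjLib

variable {X : Scheme.{u}}

/-- Cohomology of a quotient. -/
theorem subsingleton_right {T : ShortComplex X.Modules} (hT : T.ShortExact) (n : ℕ)
    (h2 : Subsingleton (Coh.HH X T.X₂ n)) (h1 : Subsingleton (Coh.HH X T.X₁ (n + 1))) :
    Subsingleton (Coh.HH X T.X₃ n) := by
  refine CohBase.subsingleton_HH _ _ (subsingleton_of_forall_eq 0 fun x => ?_)
  let T' := T.map (QCohLib.toAbF X)
  haveI : Subsingleton (CohBase.HU (⊤ : X.Opens) T'.X₁ (n + 1)) := SerreAff.subsingleton_HU_top h1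
  haveI : Subsingleton (CohBase.HU (⊤ : X.Opens) T'.X₂ n) := SerreAff.subsingleton_HU_top h2
  obtain ⟨y, hy⟩ := Abelian.Ext.covariant_sequence_exact₃ (CohBase.freeAb (⊤ : X.Opens))
    (QCohLib.toAb_shortExact hT) x rfl (Subsingleton.elim _ _)
  rw [← hy, Subsingleton.elim y 0, Abelian.Ext.zero_comp]

/-- Eventual vanishing in positive degrees of all twists, along a finite surjective morphism. -/
theorem eventually_vanish [IsNoetherian X] {Y : Scheme.{u}} (f : Y ⟶ X) [IsFinite f] [Surjective f]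
    (E : ℕ → X.Modules) (hE : ∀ n, PicF.IsInvertible (E n))
    (hpush : ∀ G : Y.Modules, Coh.IsCoh G → ∀ p, 0 < p → ∃ n₀, ∀ n, n₀ ≤ n →
      Subsingleton (Coh.HH X (tmod ((Scheme.Modules.pushforward f).obj G) (E n)) p))
    {M : X.Modules} (hM : Coh.IsCoh M) {p : ℕ} (hp : 0 < p) :
    ∃ n₀, ∀ n, n₀ ≤ n → Subsingleton (Coh.HH X (tmod M (E n)) p) := by
  obtain ⟨d, hd⟩ := S0016.result X
  suffices H : ∀ k, ∀ M : X.Modules, Coh.IsCoh M → ∀ p, 0 < p → d ≤ p + k →
      ∃ n₀, ∀ n, n₀ ≤ n → Subsingleton (Coh.HH X (tmod M (E n)) p) from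
    H d M hM p hp (Nat.le_add_left d p)
  intro k
  induction k with
  | zero =>
    exact fun M hM p _ hdp => ⟨0, fun n _ =>
      hd _ (isCoh_tmod hM (isCoh_of_isInvertible (hE n))).1 p hdp⟩
  | succ k ih =>
    intro M hM p hp hdp
    refine devissage_finite f (fun M => ∃ n₀, ∀ n, n₀ ≤ n → Subsingleton (Coh.HH X (tmod M (E n)) p))
      ?_ ?_ ?_ ?_ (fun G hG => hpush G hG p hp) hM
    · rintro A B ⟨e⟩ ⟨n₀, hn⟩
      exact ⟨n₀, fun n hn' => subsingleton_HH_iso ((tensR _).mapIso e) p (hn n hn')⟩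
    · intro N hN
      refine ⟨0, fun n _ => ?_⟩
      have hz : IsZero ((QCohLib.toAbF X).obj (tmod N (E n))) :=
        (QCohLib.toAbF X).map_isZero ((tensR _).map_isZero hN)
      refine subsingleton_of_forall_eq 0 fun x => ?_
      rw [← Sheaf.H.map_id_apply (x := x), hz.eq_of_src (𝟙 _) 0]
      show x.comp (Abelian.Ext.mk₀ 0) (add_zero p) = 0
      rw [Abelian.Ext.mk₀_zero, Abelian.Ext.comp_zero]
    · rintro S hS _ _ _ ⟨a, ha⟩ ⟨b, hb⟩
      refine ⟨max a b, fun n hn => ?_⟩
      exact SerreAff.subsingleton_mid (shortExact_tensR hS (freeAt_one_of_isInvertible (hE n))) p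
        (ha n (le_of_max_le_left hn)) (hb n (le_of_max_le_right hn))
    · rintro S hS h1 _ _ ⟨b, hb⟩
      obtain ⟨a, ha⟩ := ih S.X₁ h1 (p + 1) (Nat.succ_pos p) (by omega)
      refine ⟨max a b, fun n hn => ?_⟩
      exact subsingleton_right (shortExact_tensR hS (freeAt_one_of_isInvertible (hE n))) p
        (hb n (le_of_max_le_right hn)) (ha n (le_of_max_le_left hn))

/-- Cohomology of a twisted direct image along an affine morphism. -/
theorem subsingleton_push_tmod {Y : Scheme.{u}} (f : Y ⟶ X) [IsAffineHom f] {E : X.Modules}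
    (hE : PicF.IsInvertible E) (G : Y.Modules) [Coh.IsQCoh (tmod G ((Scheme.Modules.pullback f).obj E))] (p : ℕ)
    (h : Subsingleton (Coh.HH Y (tmod G ((Scheme.Modules.pullback f).obj E)) p)) :
    Subsingleton (Coh.HH X (tmod ((Scheme.Modules.pushforward f).obj G) E) p) := by
  obtain ⟨e, -⟩ := ProperFin.exists_pushEquiv f (M := tmod G ((Scheme.Modules.pullback f).obj E))
    (fun _ hV m => CohBase.affine_vanishing _ (hV.preimage f) m) p
  have hflf : FlatMod.IsFinLocFree E := fun x => by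
    obtain ⟨V, hx, he⟩ := isFinLocFreeOfRank_one hE x
    exact ⟨V, 1, hx, he⟩
  haveI := isIso_projMap_of_flf f hflf G
  haveI := h
  exact subsingleton_HH_iso (asIso (projMap f G E)).symm p e.symm.toEquiv.subsingleton

end Groth.Agent.FinSurjLib
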