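import Groth.Agent.DevLib.Apps
import Groth.Agent.ClSubLib.Annihilator
import Groth.Agent.IdealStalkLib.Comap
import Groth.Agent.S0019

/-!
# Dévissage along a finite surjective morphism
-/

set_option autoImplicit false
set_option backward.isDefEq.respectTransparency false
set_option linter.style.haveILetI false

universe u

open CategoryTheory CategoryTheory.Limits AlgebraicGeometry TopologicalSpace Opposite
open Groth.Agent.PullbackMod Groth.Agent.QCohLib Groth.Agent.DevLib

noncomputable section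

namespace Groth.Agent.FinSurjLib

variable {X : Scheme.{u}}

/-- A morphism of modules vanishes if it vanishes on affine opens. -/
theorem eq_zero_of_affine {M N : X.Modules} (φ : M ⟶ N)
    (h : ∀ W : X.Opens, IsAffineOpen W → ∀ s : Γ(M, W), φ.app W s = 0) : φ = 0 := by
  refine Scheme.Modules.hom_ext _ _ fun U => AddCommGrpCat.hom_ext (AddMonoidHom.ext fun s => ?_)
  refine eq_zero_of_forall_germ _ fun y hy => ?_
  obtain ⟨_, ⟨W : X.Opens, (hW : IsAffineOpen W), rfl⟩, hyW, hWU⟩ :=
    X.isBasis_affineOpens.exists_subset_of_mem_open (a := y) hy U.2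
  refine (N.presheaf.germ_res_apply (homOfLE (show W ≤ U from hWU)) y hyW _).symm.trans ?_
  refine (congrArg (N.presheaf.germ W y hyW) ((CategoryTheory.congr_fun
    (φ.mapPresheaf.naturality (homOfLE (show W ≤ U from hWU)).op) s).symm.trans
      (h W hW (M.presheaf.map (homOfLE (show W ≤ U from hWU)).op s)))).trans (map_zero _)

variable {Z : Scheme.{u}} (h : Z ⟶ X)

/-- Direct images along affine morphisms of coherent modules in closed supports. -/
theorem supp_push [IsIntegral Z] [IsFinite h] (G : Z.Modules) :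
    ∀ y ∈ CohB1.support ((Scheme.Modules.pushforward h).obj G), h (genericPoint Z) ⤳ y := by
  intro y hy
  by_contra hsp
  obtain ⟨W, hyW, hW⟩ := not_specializes_iff.1 hsp
  have hempty : h ⁻¹ᵁ W = ⊥ := by
    refine TopologicalSpace.Opens.ext (Set.eq_empty_of_forall_notMem fun z hz => hW ?_)
    exact (((genericPoint_spec Z).specializes trivial).map h.continuous).mem_open W.2 hz
  refine hy (subsingleton_of_forall_eq 0 fun z => ?_)
  obtain ⟨U, hU, s, rfl⟩ := TopCat.Presheaf.exists_germ_eq ((Scheme.Modules.pushforward h).obj G).presheaf z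
  rw [← TopCat.Presheaf.germ_res_apply _ (homOfLE (inf_le_left : U ⊓ W ≤ U)) y ⟨hU, hyW⟩ s]
  have hb : h ⁻¹ᵁ (U ⊓ W) ≤ (⊥ : Z.Opens) := hempty ▸ fun x hx => hx.2
  haveI : Subsingleton Γ((Scheme.Modules.pushforward h).obj G, U ⊓ W) := by
    have hsub : ∀ t : Γ(G, h ⁻¹ᵁ (U ⊓ W)), t = 0 := fun t =>
      eq_zero_of_forall_germ t fun x hx => absurd (hb hx) (fun hh => hh)
    exact ⟨fun a b => (hsub a).trans (hsub b).symm⟩
  rw [Subsingleton.elim ((((Scheme.Modules.pushforward h).obj G).presheaf.map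
    (homOfLE (inf_le_left : U ⊓ W ≤ U)).op) s) 0, map_zero]

theorem nontrivial_stalk_push [IsIntegral Z] :
    h (genericPoint Z) ∈ CohB1.support ((Scheme.Modules.pushforward h).obj (Coh.structureModule Z)) := by
  intro hs
  have := @Subsingleton.elim _ hs
    (((Scheme.Modules.pushforward h).obj (Coh.structureModule Z)).presheaf.germ ⊤ (h (genericPoint Z)) trivial
      (1 : Γ(Z, h ⁻¹ᵁ ⊤))) 0
  obtain ⟨W, hW, i₁, i₂, e⟩ := TopCat.Presheaf.germ_eq
    ((Scheme.Modules.pushforward h).obj (Coh.structureModule Z)).presheaf (h (genericPoint Z))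
    (U := ⊤) (V := ⊤) trivial trivial (1 : Γ(Z, h ⁻¹ᵁ ⊤)) 0 (this.trans (map_zero _).symm)
  rw [map_zero] at e
  have h1 : Z.presheaf.map (homOfLE (show h ⁻¹ᵁ W ≤ h ⁻¹ᵁ ⊤ from fun _ _ => trivial)).op (1 : Γ(Z, h ⁻¹ᵁ ⊤)) = 0 := e
  rw [map_one] at h1
  haveI : Nonempty (h ⁻¹ᵁ W : Z.Opens) := ⟨⟨_, hW⟩⟩
  exact one_ne_zero h1

variable [IsNoetherian X]

/-- Dévissage along finite surjective morphisms, for properties stable under extensions and quotients. -/
theorem devissage_finite {Y : Scheme.{u}} (f : Y ⟶ X) [IsFinite f] [Surjective f] (P : X.Modules → Prop)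
    (hiso : ∀ M N : X.Modules, Nonempty (M ≅ N) → P M → P N)
    (hzero : ∀ M : X.Modules, IsZero M → P M)
    (hext : ∀ S : ShortComplex X.Modules, S.ShortExact → Coh.IsCoh S.X₁ → Coh.IsCoh S.X₂ →
      Coh.IsCoh S.X₃ → P S.X₁ → P S.X₃ → P S.X₂)
    (hquot : ∀ S : ShortComplex X.Modules, S.ShortExact → Coh.IsCoh S.X₁ → Coh.IsCoh S.X₂ →
      Coh.IsCoh S.X₃ → P S.X₂ → P S.X₃)
    (hpush : ∀ G : Y.Modules, Coh.IsCoh G → P ((Scheme.Modules.pushforward f).obj G))
    {M : X.Modules} (hM : Coh.IsCoh M) : P M := by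
  refine DevLib.devissage Set.univ P hiso hzero (fun S a b c d _ => hext S a b c d) ?_ M hM (Set.subset_univ _)
  intro ξ _ _ Q hQ hsm
  obtain ⟨η, hη⟩ := f.surjective ξ
  obtain ⟨Z, i, hi, hZ, -, hgen⟩ := exists_integral_closed η
  haveI := hi
  haveI := hZ
  let h : Z ⟶ X := i ≫ f
  haveI : IsLocallyNoetherian Y := LocallyOfFiniteType.isLocallyNoetherian f
  haveI : IsLocallyNoetherian Z := LocallyOfFiniteType.isLocallyNoetherian i
  have hξ : h (genericPoint Z) = ξ := by
    show f (i (genericPoint Z)) = ξ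
    rw [hgen, hη]
  subst hξ
  have hpushZ : ∀ G : Z.Modules, Coh.IsCoh G → P ((Scheme.Modules.pushforward h).obj G) := fun G hG =>
    hiso _ _ ⟨(Scheme.Modules.pushforwardComp i f).app G⟩ (hpush _ (isCoh_pushforward_closed i hG))
  let O := Coh.structureModule Z
  let T := (Scheme.Modules.pushforward h).obj O
  have hT : Coh.IsCoh T := S0019.result h O (isCoh_structureModule Z)
  haveI := hT.1
  have hTs : ∀ y ∈ CohB1.support T, h (genericPoint Z) ⤳ y := supp_push h O
  have hB : Absorbs (⊥ : Submodule (X.presheaf.stalk (h (genericPoint Z))) (T.presheaf.stalk (h (genericPoint Z)))) :=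
    absorbs_bot (W₀ := ⊤) trivial fun y _ hy => hTs y hy
  haveI : Nontrivial (T.presheaf.stalk (h (genericPoint Z))) :=
    not_subsingleton_iff_nontrivial.1 (nontrivial_stalk_push h)
  haveI := finite_stalk_of_isFT hT.2 (h (genericPoint Z))
  obtain ⟨S, hS, -⟩ := (eq_top_or_exists_le_coatom
    (⊥ : Submodule (X.presheaf.stalk (h (genericPoint Z))) (T.presheaf.stalk (h (genericPoint Z))))).resolve_left bot_ne_top
  have hSabs : Absorbs S := hB.mono bot_le
  let jS := subAtMap (le_top : S ≤ ⊤)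
  have hsimple : IsSimpleModule (X.presheaf.stalk (h (genericPoint Z)))
      (↥(⊤ : Submodule (X.presheaf.stalk (h (genericPoint Z))) (T.presheaf.stalk (h (genericPoint Z)))) ⧸
        S.comap (Submodule.subtype _)) := by
    haveI : IsSimpleModule (X.presheaf.stalk (h (genericPoint Z))) (T.presheaf.stalk (h (genericPoint Z)) ⧸ S) :=
      isSimpleModule_iff_isCoatom.2 hS
    refine IsSimpleModule.congr (Submodule.Quotient.equiv _ S Submodule.topEquiv ?_)
    ext z
    exact ⟨fun ⟨w, hw, e⟩ => e ▸ hw, fun hz => ⟨⟨z, trivial⟩, hz, rfl⟩⟩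
  have hG' := isPiece_coker hT hSabs le_top hTs hsimple jS (subAtMap_ι _)
  haveI hiTop := isIso_subAtι_top (M := T) (h (genericPoint Z))
  let π : T ⟶ cokernel jS := inv (subAtι ⊤) ≫ cokernel.π jS
  have hπ : Function.Surjective (stalkLin π (h (genericPoint Z))) := by
    rw [stalkLin_comp]
    refine (coker_surjective jS _).comp ?_
    exact ((isIso_iff_stalk _).1 inferInstance _).2
  obtain ⟨H, p, q, hH, hp, hq, hps, hqs⟩ := exists_common hQ hG'
  let K := cokernel q
  have hK : Coh.IsCoh K := (isCoh_kernel_cokernel q hH hG'.coh).2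
  haveI := hK.1
  let J := ClSubLib.annIdeal K hK.2
  have hJξ : h (genericPoint Z) ∉ (J.support : Set X) := by
    intro hmem
    rw [← Scheme.IdealSheafData.range_subschemeι, ClSubLib.range_annIdeal] at hmem
    exact notMem_support_coker q hqs hmem
  let I := J.comap h
  let G : Z.Modules := ClSub.idealMod I
  have hG : Coh.IsCoh G :=
    (isCoh_kernel_cokernel (ClSub.toSubscheme I) (isCoh_structureModule Z)
      (isCoh_pushforward_closed I.subschemeι (haveI : IsLocallyNoetherian I.subscheme :=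
        LocallyOfFiniteType.isLocallyNoetherian I.subschemeι; isCoh_structureModule _))).1
  let j : (Scheme.Modules.pushforward h).obj G ⟶ T := (Scheme.Modules.pushforward h).map (ClSub.idealModι I)
  have hker : ∀ (V : Z.affineOpens) (t : Γ(G, V.1)), (ClSub.idealModι I).app V.1 t ∈ I.ideal V := by
    intro V t
    have h0 : (ClSub.toSubscheme I).app V.1 ((ClSub.idealModι I).app V.1 t) = 0 :=
      congrArg (fun g => g.app V.1 t) (kernel.condition (ClSub.toSubscheme I))
    rw [← Scheme.IdealSheafData.ker_subschemeι_app]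
    exact h0
  have hzero : j ≫ π ≫ cokernel.π q = 0 := by
    refine eq_zero_of_affine _ fun W hW t => ?_
    let V : Z.affineOpens := ⟨h ⁻¹ᵁ W, hW.preimage h⟩
    have ht : (ClSub.idealModι I).app V.1 t ∈ (J.ideal ⟨W, hW⟩).map (h.app W).hom := by
      rw [show (J.ideal ⟨W, hW⟩).map (h.app W).hom = I.ideal V by
        rw [Scheme.Hom.app_eq_appLE]; exact (IdealStalkLib.comap_ideal J h hW V.2 le_rfl).symm]
      exact hker V t
    have key : ∀ b ∈ (J.ideal ⟨W, hW⟩).map (h.app W).hom, (π ≫ cokernel.π q).app W b = 0 := by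
      intro b hb
      suffices H : ∀ c : Γ(Z, h ⁻¹ᵁ W), (π ≫ cokernel.π q).app W (c * b : Γ(Z, h ⁻¹ᵁ W)) = 0 by
        have := H 1
        rwa [one_mul] at this
      induction hb using Submodule.span_induction with
      | mem b hb =>
        obtain ⟨a, ha, rfl⟩ := hb
        intro c
        rw [mul_comm]
        show (π ≫ cokernel.π q).app W (a • (show Γ(T, W) from c)) = 0
        exact (Scheme.Modules.Hom.app_smul (π ≫ cokernel.π q) a (show Γ(T, W) from c)).trans
          (Module.mem_annihilator.1 ha _)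
      | zero => intro c; rw [mul_zero]; exact map_zero _
      | add b b' _ _ h1 h2 =>
        intro c
        rw [mul_add]
        exact (map_add ((π ≫ cokernel.π q).app W).hom (c * b : Γ(Z, h ⁻¹ᵁ W)) (c * b' : Γ(Z, h ⁻¹ᵁ W))).trans
          (by
            show (π ≫ cokernel.π q).app W (c * b : Γ(Z, h ⁻¹ᵁ W)) + (π ≫ cokernel.π q).app W (c * b' : Γ(Z, h ⁻¹ᵁ W)) = 0
            rw [h1 c, h2 c, add_zero])
      | smul r b _ h1 => intro c; rw [smul_eq_mul, ← mul_assoc]; exact h1 _
    exact key _ ht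
  obtain ⟨v₀, hv₀⟩ : ∃ v₀ : (Scheme.Modules.pushforward h).obj G ⟶ H, v₀ ≫ q = j ≫ π := by
    haveI := hq
    exact ⟨Abelian.monoLift q (j ≫ π) (by rw [Category.assoc]; exact hzero), Abelian.monoLift_comp _ _ _⟩
  have hjs : Function.Surjective (stalkLin j (h (genericPoint Z))) := by
    intro z
    obtain ⟨U, hU, s, rfl⟩ := TopCat.Presheaf.exists_germ_eq T.presheaf z
    obtain ⟨_, ⟨W : X.Opens, (hW : IsAffineOpen W), rfl⟩, hξW, hWU⟩ :=
      X.isBasis_affineOpens.exists_subset_of_mem_open hU U.2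
    obtain ⟨a, ha, hau⟩ : ∃ a ∈ J.ideal ⟨W, hW⟩, IsUnit (X.presheaf.germ W _ hξW a) := by
      have hn : h (genericPoint Z) ∉ X.zeroLocus (U := W) (J.ideal ⟨W, hW⟩) := fun hz =>
        hJξ ((Scheme.IdealSheafData.mem_support_iff_of_mem (U := ⟨W, hW⟩) hξW).2 hz)
      rw [Scheme.mem_zeroLocus_iff] at hn
      push Not at hn
      obtain ⟨a, ha, hau⟩ := hn
      exact ⟨a, ha, (X.mem_basicOpen a _ hξW).1 hau⟩
    rw [← TopCat.Presheaf.germ_res_apply T.presheaf (homOfLE (show W ≤ U from hWU)) _ hξW s]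
    generalize T.presheaf.map (homOfLE (show W ≤ U from hWU)).op s = m
    let V : Z.affineOpens := ⟨h ⁻¹ᵁ W, hW.preimage h⟩
    have hmem : (h.app W a * (show Γ(Z, h ⁻¹ᵁ W) from m)) ∈ I.ideal V := by
      refine Ideal.mul_mem_right _ _ ?_
      rw [IdealStalkLib.comap_ideal J h hW V.2 le_rfl, ← Scheme.Hom.app_eq_appLE]
      exact Ideal.mem_map_of_mem _ ha
    rw [← Scheme.IdealSheafData.ker_subschemeι_app] at hmem
    obtain ⟨t, ht⟩ := kernel_app_exact (ClSub.toSubscheme I) V.1 _ hmem
    obtain ⟨u, hu⟩ := hau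
    refine ⟨Units.val u⁻¹ •
      ((Scheme.Modules.pushforward h).obj G).presheaf.germ W _ hξW t, ?_⟩
    rw [map_smul]
    refine (congrArg (Units.val u⁻¹ • ·) (?_ : stalkLin j _ _ = Units.val u •
      T.presheaf.germ W _ hξW m)).trans (inv_smul_smul u _)
    rw [stalkLin_germ, hu]
    refine (congrArg (T.presheaf.germ W _ hξW) (?_ : j.app W t = a • m)).trans
      (PresheafOfModules.germ_smul (R := X.presheaf) T.val _ W hξW a m)
    exact ht
  let v := v₀ ≫ p
  have hvs : Function.Surjective (stalkLin v (h (genericPoint Z))) := by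
    have h1 : Function.Surjective (stalkLin v₀ (h (genericPoint Z))) := fun y => by
      obtain ⟨z, hz⟩ := (hπ.comp hjs) (stalkLin q _ y)
      refine ⟨z, (mono_iff_stalk q).1 hq _ ?_⟩
      rw [← LinearMap.comp_apply, ← stalkLin_comp, hv₀, stalkLin_comp]
      exact hz
    rw [stalkLin_comp]
    exact hps.comp h1
  have hGc : Coh.IsCoh ((Scheme.Modules.pushforward h).obj G) := S0019.result h G hG
  obtain ⟨hk1, hk2⟩ := isCoh_kernel_cokernel v hGc hQ.coh
  let w : cokernel (kernel.ι v) ⟶ Q := cokernel.desc (kernel.ι v) v (kernel.condition v)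
  haveI : Mono w := inferInstanceAs (Mono (Abelian.factorThruCoimage v))
  have him : Coh.IsCoh (cokernel (kernel.ι v)) := (isCoh_kernel_cokernel (kernel.ι v) hk1 hGc).2
  have hPim : P (cokernel (kernel.ι v)) :=
    hquot (cokerSeq (kernel.ι v)) (cokerSeq_shortExact _) hk1 hGc him (hpushZ G hG)
  refine hext (cokerSeq w) (cokerSeq_shortExact _) him hQ.coh
    (isCoh_kernel_cokernel _ him hQ.coh).2 hPim
    (hsm _ (isCoh_kernel_cokernel _ him hQ.coh).2 (supp_coker _ hQ.supp) (notMem_support_coker _ ?_))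
  intro y
  obtain ⟨z, rfl⟩ := hvs y
  refine ⟨stalkLin (cokernel.π (kernel.ι v)) _ z, ?_⟩
  rw [← LinearMap.comp_apply, ← stalkLin_comp, cokernel.π_desc]

end Groth.Agent.FinSurjLib
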